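import Groth.Agent.H26Lie3.Data
import Groth.Prelude.Def_W4c1bouilletffgsL3
import Mathlib.RingTheory.Localization.Away.Basic
import Mathlib.RingTheory.Ideal.Quotient.Operations
import Mathlib.RingTheory.Regular.RegularSequence

/-!
The ideals `I`, `J`, `L` of based three dimensional Lie algebras: `J` is the kernel of a rational
parametrisation, `J ⊓ L = I`, and colon identities.
-/

set_option autoImplicit false
open MvPolynomial

namespace Groth.Agent.H26Lie3

open Lie3Mod Groth.Agent.H26Misc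

variable (A : Type*) [CommRing A]

/-- coordinates `u v w h g i e b c` to structure constants -/
noncomputable def theta : MvPolynomial (Fin 9) A →ₐ[A] D A :=
  aeval ![va - vi, vb + vf, vd + vh, vh, vg, vi, ve, vb, vc]

/-- structure constants to coordinates `u v w h g i e b c` -/
noncomputable def psi : D A →ₐ[A] MvPolynomial (Fin 9) A :=
  aeval ![X 0 + X 5, X 7, X 8, X 2 - X 3, X 6, X 1 - X 7, X 4, X 3, X 5]

theorem theta_psi (x : D A) : theta A (psi A x) = x := by
  have : (theta A).comp (psi A) = AlgHom.id A (D A) := by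
    refine algHom_ext fun k => ?_
    fin_cases k <;> simp [theta, psi, va, vb, vc, vd, ve, vf, vg, vh, vi]
  exact AlgHom.congr_fun this x

theorem psi_L1 : psi A (L1 A) = X 0 := by simp [psi, L1, va, vi]
theorem psi_L2 : psi A (L2 A) = X 1 := by simp [psi, L2, vb, vf]
theorem psi_L3 : psi A (L3 A) = X 2 := by simp [psi, L3, vd, vh]

theorem psi_Q1 : psi A (Q1 A) = X 3 * X 0 - X 4 * X 1 + X 5 * X 2 := by
  simp [psi, Q1, va, vb, vd, vf, vg, vh, vi]; ring

theorem psi_Q2 : psi A (Q2 A) = -(X 6 * X 0) - X 3 * X 1 + X 7 * X 2 := by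
  simp [psi, Q2, va, vb, vd, ve, vf, vh, vi]; ring

theorem psi_Q3 : psi A (Q3 A) = (X 7 - X 1) * X 0 - X 5 * X 1 + X 8 * X 2 := by
  simp [psi, Q3, va, vb, vc, vd, vf, vh, vi]; ring

theorem psi_detM : psi A (detM A) = -(X 8 * X 3 ^ 2) + X 4 * X 7 * (X 1 - X 7) + X 6 * X 5 ^ 2
    - X 4 * X 6 * X 8 + X 3 * X 7 * X 5 - X 5 * X 3 * (X 1 - X 7) := by
  simp [psi, detM, vb, vc, ve, vf, vg, vh, vi]

theorem mem_map_psi {s : Set (D A)} {x : D A} (h : x ∈ Ideal.span s) :
    psi A x ∈ Ideal.span (psi A '' s) := by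
  rw [← Ideal.map_span]
  exact Ideal.mem_map_of_mem _ h

theorem mem_of_psi_mem {s : Set (D A)} {x : D A} (h : psi A x ∈ Ideal.span (psi A '' s)) :
    x ∈ Ideal.span s := by
  have := Ideal.mem_map_of_mem (theta A) h
  rw [Ideal.map_span, ← Set.image_comp, theta_psi] at this
  have e : (theta A ∘ psi A) '' s = s := by
    rw [show (theta A ∘ psi A : D A → D A) = id from funext (theta_psi A), Set.image_id]
  rwa [e] at this

/-- the transformed ideal -/
noncomputable def J' : Ideal (MvPolynomial (Fin 9) A) := Ideal.span (psi A '' {Q1 A, Q2 A, Q3 A, detM A})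

theorem mem_idJ_iff {x : D A} : x ∈ idJ A ↔ psi A x ∈ J' A :=
  ⟨mem_map_psi A, mem_of_psi_mem A⟩

theorem gB_eq : gB A 0 = -psi A (Q1 A) ∧ gB A 1 = -psi A (Q2 A) ∧ gB A 2 = psi A (Q3 A) ∧
    gB A 3 = X 3 * gB A 0 - X 4 * gB A 1 ∧ gB A 4 = X 7 * gB A 0 - X 5 * gB A 1 - psi A (detM A) := by
  refine ⟨?_, ?_, ?_, ?_, ?_⟩ <;>
    simp [gB, gLead, gTail, WGB.toP, Fin.prod_univ_succ, psi_Q1, psi_Q2, psi_Q3, psi_detM] <;> ring

theorem J'_eq : J' A = Ideal.span (Set.range (gB A)) := by
  obtain ⟨e0, e1, e2, e3, e4⟩ := gB_eq A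
  apply le_antisymm
  · rw [J', Ideal.span_le]
    have m : ∀ j, gB A j ∈ Ideal.span (Set.range (gB A)) := fun j => Ideal.subset_span ⟨j, rfl⟩
    rintro _ ⟨x, hx, rfl⟩
    simp only [Set.mem_insert_iff, Set.mem_singleton_iff] at hx
    rcases hx with rfl | rfl | rfl | rfl
    · rw [show psi A (Q1 A) = -gB A 0 by rw [e0, neg_neg]]; exact neg_mem (m 0)
    · rw [show psi A (Q2 A) = -gB A 1 by rw [e1, neg_neg]]; exact neg_mem (m 1)
    · rw [← e2]; exact m 2
    · rw [show psi A (detM A) = X 7 * gB A 0 - X 5 * gB A 1 - gB A 4 by rw [e4]; ring]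
      exact sub_mem (sub_mem (Ideal.mul_mem_left _ _ (m 0)) (Ideal.mul_mem_left _ _ (m 1))) (m 4)
  · rw [Ideal.span_le]
    have m : ∀ x ∈ ({Q1 A, Q2 A, Q3 A, detM A} : Set (D A)), psi A x ∈ J' A :=
      fun x hx => Ideal.subset_span ⟨x, hx, rfl⟩
    have h0 : gB A 0 ∈ J' A := by rw [e0]; exact neg_mem (m _ (by simp))
    have h1 : gB A 1 ∈ J' A := by rw [e1]; exact neg_mem (m _ (by simp))
    rintro _ ⟨j, rfl⟩
    fin_cases j
    · exact h0
    · exact h1
    · show gB A 2 ∈ J' A
      rw [e2]; exact m _ (by simp)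
    · show gB A 3 ∈ J' A
      rw [e3]; exact sub_mem (Ideal.mul_mem_left _ _ h0) (Ideal.mul_mem_left _ _ h1)
    · show gB A 4 ∈ J' A
      rw [e4]; exact sub_mem (sub_mem (Ideal.mul_mem_left _ _ h0) (Ideal.mul_mem_left _ _ h1)) (m _ (by simp))

theorem mem_of_X0_mul_mem {x : MvPolynomial (Fin 9) A} (h : X 0 * x ∈ J' A) : x ∈ J' A := by
  rw [J'_eq] at h ⊢
  exact WGB.mem_of_X_mul_mem (gB_leading A) (gB_buchberger A) 0 (by decide) h

/-- target of the parametrisation -/
abbrev T := Localization.Away (X 0 : MvPolynomial (Fin 9) A)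

/-- canonical map -/
noncomputable abbrev iot (p : MvPolynomial (Fin 9) A) : T A := algebraMap _ _ p

/-- inverse of `u` -/
noncomputable def rho : T A := IsLocalization.Away.invSelf (X 0 : MvPolynomial (Fin 9) A)

noncomputable def imH : T A := (iot A (X 4) * iot A (X 1) - iot A (X 5) * iot A (X 2)) * rho A
noncomputable def imB : T A := iot A (X 1) + (iot A (X 5) * iot A (X 1) - iot A (X 8) * iot A (X 2)) * rho A
noncomputable def imE : T A := (imB A * iot A (X 2) - imH A * iot A (X 1)) * rho A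

/-- parametrisation of the component `J` -/
noncomputable def phi : MvPolynomial (Fin 9) A →ₐ[A] T A :=
  aeval ![iot A (X 0), iot A (X 1), iot A (X 2), imH A, iot A (X 4), iot A (X 5), imE A, imB A, iot A (X 8)]

theorem u_mul_rho : iot A (X 0) * rho A = 1 := IsLocalization.Away.mul_invSelf _

theorem imH_u : imH A * iot A (X 0) = iot A (X 4) * iot A (X 1) - iot A (X 5) * iot A (X 2) := by
  rw [imH, mul_assoc, mul_comm (rho A), u_mul_rho, mul_one]

theorem imB_u : (imB A - iot A (X 1)) * iot A (X 0) = iot A (X 5) * iot A (X 1) - iot A (X 8) * iot A (X 2) := by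
  rw [imB, add_sub_cancel_left, mul_assoc, mul_comm (rho A), u_mul_rho, mul_one]

theorem imE_u : imE A * iot A (X 0) = imB A * iot A (X 2) - imH A * iot A (X 1) := by
  rw [imE, mul_assoc, mul_comm (rho A), u_mul_rho, mul_one]

theorem phi_Q (x : D A) (hx : x ∈ ({Q1 A, Q2 A, Q3 A} : Set (D A))) : phi A (psi A x) = 0 := by
  simp only [Set.mem_insert_iff, Set.mem_singleton_iff] at hx
  rcases hx with rfl | rfl | rfl
  · simp [psi_Q1, phi]; linear_combination imH_u A
  · simp [psi_Q2, phi]; linear_combination (-1 : T A) * imE_u A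
  · simp [psi_Q3, phi]; linear_combination imB_u A

/-- Cramer's rule -/
theorem L1_mul_detM : L1 A * detM A = (-(vh * vc) - vb * (-vi)) * Q1 A + (-(-vg * vc) + vi * (-vi)) * Q2 A
    + ((-vg) * vb + vi * vh) * Q3 A := by
  simp only [L1, detM, Q1, Q2, Q3]; ring

theorem phi_detM : phi A (psi A (detM A)) = 0 := by
  have h := congrArg (fun x => phi A (psi A x)) (L1_mul_detM A)
  simp only [map_add, map_mul, phi_Q A _ (Set.mem_insert _ _), phi_Q A _ (Set.mem_insert_of_mem _ (Set.mem_insert _ _)),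
    phi_Q A _ (Set.mem_insert_of_mem _ (Set.mem_insert_of_mem _ (Set.mem_singleton _))), mul_zero, add_zero, psi_L1] at h
  have hu : phi A (X 0) = iot A (X 0) := by simp [phi]
  rw [hu] at h
  calc phi A (psi A (detM A)) = iot A (X 0) * rho A * phi A (psi A (detM A)) := by rw [u_mul_rho, one_mul]
    _ = rho A * (iot A (X 0) * phi A (psi A (detM A))) := by ring
    _ = 0 := by rw [h, mul_zero]

theorem ker_phi : RingHom.ker (phi A) = J' A := by
  apply le_antisymm
  · intro x hx
    let mkJ : MvPolynomial (Fin 9) A →+* MvPolynomial (Fin 9) A ⧸ J' A := Ideal.Quotient.mk _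
    let T' := Localization.Away (mkJ (X 0))
    let τ : MvPolynomial (Fin 9) A →+* T' := (algebraMap _ T').comp mkJ
    have hu : IsUnit (τ (X 0)) := IsLocalization.Away.algebraMap_isUnit (mkJ (X 0))
    let Φ : T A →+* T' := IsLocalization.Away.lift (X 0 : MvPolynomial (Fin 9) A) (g := τ) hu
    have hΦ : ∀ p, Φ (iot A p) = τ p := fun p => IsLocalization.Away.lift_eq _ hu p
    have hJ : ∀ y ∈ ({Q1 A, Q2 A, Q3 A, detM A} : Set (D A)), τ (psi A y) = 0 := fun y hy => by
      show algebraMap _ T' (mkJ (psi A y)) = 0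
      rw [show mkJ (psi A y) = 0 from Ideal.Quotient.eq_zero_iff_mem.mpr (Ideal.subset_span ⟨y, hy, rfl⟩), map_zero]
    have hH : Φ (imH A) = τ (X 3) := by
      apply hu.mul_right_cancel
      have h1 := hJ (Q1 A) (by simp)
      rw [psi_Q1] at h1
      simp only [map_add, map_sub, map_mul] at h1
      rw [← hΦ (X 0), ← map_mul, imH_u, hΦ]
      simp only [map_sub, map_mul, hΦ]
      linear_combination -h1
    have hB : Φ (imB A) = τ (X 7) := by
      have h3 := hJ (Q3 A) (by simp)
      rw [psi_Q3] at h3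
      simp only [map_add, map_sub, map_mul] at h3
      have e := congrArg Φ (imB_u A)
      simp only [map_sub, map_mul, hΦ] at e
      apply hu.mul_right_cancel
      linear_combination e - h3
    have hE : Φ (imE A) = τ (X 6) := by
      have h2 := hJ (Q2 A) (by simp)
      rw [psi_Q2] at h2
      simp only [map_add, map_sub, map_mul, map_neg] at h2
      have e := congrArg Φ (imE_u A)
      simp only [map_sub, map_mul, hΦ, hH, hB] at e
      apply hu.mul_right_cancel
      linear_combination e + h2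
    have hcomp : Φ.comp (phi A : MvPolynomial (Fin 9) A →+* T A) = τ := by
      refine MvPolynomial.ringHom_ext (fun r => ?_) (fun k => ?_)
      · show Φ (phi A (C r)) = τ (C r)
        rw [← algebraMap_eq, AlgHom.commutes, ← hΦ]
        rfl
      · show Φ (phi A (X k)) = τ (X k)
        fin_cases k <;> simp [phi, hΦ, hH, hB, hE]
    have h0 : τ x = 0 := by
      rw [← hcomp]
      show Φ (phi A x) = 0
      rw [RingHom.mem_ker.mp hx, map_zero]
    obtain ⟨⟨_, n, rfl⟩, hn⟩ := (IsLocalization.map_eq_zero_iff (Submonoid.powers (mkJ (X 0))) T' (mkJ x)).mp h0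
    change mkJ (X 0) ^ n * mkJ x = 0 at hn
    rw [← map_pow, ← map_mul] at hn
    replace hn := Ideal.Quotient.eq_zero_iff_mem.mp hn
    clear h0 hcomp
    induction n with
    | zero => simpa using hn
    | succ n ih => exact ih (mem_of_X0_mul_mem A (by rwa [pow_succ', mul_assoc] at hn))
  · rw [J', Ideal.span_le]
    rintro _ ⟨y, hy, rfl⟩
    simp only [Set.mem_insert_iff, Set.mem_singleton_iff] at hy
    rcases hy with rfl | rfl | rfl | rfl
    · exact phi_Q A _ (by simp)
    · exact phi_Q A _ (by simp)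
    · exact phi_Q A _ (by simp)
    · exact phi_detM A

/-- `J` is the kernel of the parametrisation. -/
theorem idJ_eq_ker : idJ A = RingHom.ker ((phi A).comp (psi A)) := by
  ext x
  rw [mem_idJ_iff, ← ker_phi]
  rfl

theorem isUnit_phi_L1 : IsUnit (phi A (psi A (L1 A))) := by
  rw [psi_L1, show phi A (X 0) = iot A (X 0) by simp [phi]]
  exact IsUnit.of_mul_eq_one _ (u_mul_rho A)

theorem idI_le_idJ : idI A ≤ idJ A := Ideal.span_mono (by simp [Set.insert_subset_iff])

theorem idI_le_idL : idI A ≤ idL A := by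
  have m : ∀ y ∈ ({L1 A, L2 A, L3 A} : Set (D A)), y ∈ idL A := fun y hy => Ideal.subset_span hy
  have h1 := m (L1 A) (by simp)
  have h2 := m (L2 A) (by simp)
  have h3 := m (L3 A) (by simp)
  rw [idI, Ideal.span_le]
  rintro y hy
  simp only [Set.mem_insert_iff, Set.mem_singleton_iff] at hy
  rcases hy with rfl | rfl | rfl
  · rw [show Q1 A = vh * L1 A - vg * L2 A + vi * L3 A by simp only [Q1, L1, L2, L3]; ring]
    exact add_mem (sub_mem (Ideal.mul_mem_left _ _ h1) (Ideal.mul_mem_left _ _ h2)) (Ideal.mul_mem_left _ _ h3)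
  · rw [show Q2 A = -ve * L1 A - vh * L2 A + vb * L3 A by simp only [Q2, L1, L2, L3]; ring]
    exact add_mem (sub_mem (Ideal.mul_mem_left _ _ h1) (Ideal.mul_mem_left _ _ h2)) (Ideal.mul_mem_left _ _ h3)
  · rw [show Q3 A = -vf * L1 A - vi * L2 A + vc * L3 A by simp only [Q3, L1, L2, L3]; ring]
    exact add_mem (sub_mem (Ideal.mul_mem_left _ _ h1) (Ideal.mul_mem_left _ _ h2)) (Ideal.mul_mem_left _ _ h3)

theorem Q_mem_idI (a b c : D A) : a * Q1 A + b * Q2 A + c * Q3 A ∈ idI A := by
  refine add_mem (add_mem ?_ ?_) ?_ <;> exact Ideal.mul_mem_left _ _ (Ideal.subset_span (by simp))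

theorem L_mul_detM_mem {l : D A} (hl : l ∈ idL A) : l * detM A ∈ idI A := by
  revert l
  suffices h : ∀ l ∈ ({L1 A, L2 A, L3 A} : Set (D A)), l * detM A ∈ idI A by
    intro l hl
    refine Submodule.span_induction (fun x hx => h x hx) (by simp) (fun x y _ _ hx hy => ?_) (fun a x _ hx => ?_) hl
    · rw [add_mul]; exact add_mem hx hy
    · rw [smul_eq_mul, mul_assoc]; exact Ideal.mul_mem_left _ _ hx
  intro l hl
  simp only [Set.mem_insert_iff, Set.mem_singleton_iff] at hl
  rcases hl with rfl | rfl | rfl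
  · rw [show L1 A * detM A = (-(vh * vc) + vb * vi) * Q1 A + (vg * vc - vi * vi) * Q2 A
        + (-(vg * vb) + vi * vh) * Q3 A by simp only [L1, detM, Q1, Q2, Q3]; ring]
    exact Q_mem_idI A _ _ _
  · rw [show L2 A * detM A = (ve * vc - vb * vf) * Q1 A + (vh * vc + vi * vf) * Q2 A
        + (-(vh * vb) - vi * ve) * Q3 A by simp only [L2, detM, Q1, Q2, Q3]; ring]
    exact Q_mem_idI A _ _ _
  · rw [show L3 A * detM A = (ve * vi - vh * vf) * Q1 A + (vh * vi + vg * vf) * Q2 A
        + (-(vh * vh) - vg * ve) * Q3 A by simp only [L3, detM, Q1, Q2, Q3]; ring]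
    exact Q_mem_idI A _ _ _

theorem mul_mem_idI {l x : D A} (hl : l ∈ idL A) (hx : x ∈ idJ A) : x * l ∈ idI A := by
  refine Submodule.span_induction (fun y hy => ?_) (by simp) (fun x y _ _ hx hy => ?_) (fun a x _ hx => ?_) hx
  · simp only [Set.mem_insert_iff, Set.mem_singleton_iff] at hy
    rcases hy with rfl | rfl | rfl | rfl
    iterate 3 exact Ideal.mul_mem_right _ _ (Ideal.subset_span (by simp))
    rw [mul_comm]; exact L_mul_detM_mem A hl
  · rw [add_mul]; exact add_mem hx hy
  · rw [smul_eq_mul, mul_assoc]; exact Ideal.mul_mem_left _ _ hx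

/-- substitution killing `L` -/
noncomputable def piL : D A →ₐ[A] D A :=
  aeval ![vi, vb, vc, -vh, ve, -vb, vg, vh, vi]

theorem sub_piL_mem (x : D A) : x - piL A x ∈ idL A := by
  induction x using MvPolynomial.induction_on with
  | C a =>
    rw [show piL A (C a) = C a from (piL A).commutes a, sub_self]
    exact zero_mem _
  | add p q hp hq => rw [map_add, add_sub_add_comm]; exact add_mem hp hq
  | mul_X p k hp =>
    have hk : (X k : D A) - piL A (X k) ∈ idL A := by
      have m : ∀ y ∈ ({L1 A, L2 A, L3 A} : Set (D A)), y ∈ idL A := fun y hy => Ideal.subset_span hy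
      fin_cases k
      all_goals simp [piL, va, vb, vc, vd, ve, vf, vg, vh, vi]
      · have := m (L1 A) (by simp); simpa [L1, va, vi] using this
      · have := m (L3 A) (by simp); simpa [L3, vd, vh] using this
      · have := m (L2 A) (by simp); simpa [L2, vb, vf, add_comm] using this
    rw [map_mul, show p * X k - piL A p * piL A (X k) = (p - piL A p) * X k + piL A p * (X k - piL A (X k)) by ring]
    exact add_mem (Ideal.mul_mem_right _ _ hp) (Ideal.mul_mem_left _ _ hk)

theorem idL_eq_ker : idL A = RingHom.ker (piL A) := by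
  apply le_antisymm
  · rw [idL, Ideal.span_le]
    intro y hy
    simp only [Set.mem_insert_iff, Set.mem_singleton_iff] at hy
    rcases hy with rfl | rfl | rfl <;> simp [piL, L1, L2, L3, va, vb, vd, vf, vh, vi]
  · intro x hx
    have := sub_piL_mem A x
    rwa [RingHom.mem_ker.mp hx, sub_zero] at this

/-- weights singling out `g e c` in `det M` restricted to `L = 0` -/
def dW : Fin 9 → ℕ := ![0, 0, 1, 0, 1, 0, 1, 0, 0]

/-- terms of `-det M` restricted to `L = 0` -/
def dLead : Fin 1 → Fin 9 → ℕ := fun _ => ![0, 0, 1, 0, 1, 0, 1, 0, 0]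

/-- terms of lower weight -/
def dTail : Fin 1 → List (ℤ × (Fin 9 → ℕ)) := fun _ =>
  [(1, ![0, 0, 1, 0, 0, 0, 0, 2, 0]), (1, ![0, 2, 0, 0, 0, 0, 1, 0, 0]),
   (-1, ![0, 0, 0, 0, 1, 0, 0, 0, 2]), (-2, ![0, 1, 0, 0, 0, 0, 0, 1, 1])]

theorem neg_piL_detM : -piL A (detM A) = WGB.toP ((1, dLead 0) :: dTail 0) := by
  simp [piL, detM, dLead, dTail, WGB.toP, Fin.prod_univ_succ, va, vb, vc, vd, ve, vf, vg, vh, vi]
  ring

/-- `det M` is regular modulo `L`. -/
theorem mem_idL_of_mul_detM {x : D A} (h : x * detM A ∈ idL A) : x ∈ idL A := by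
  rw [idL_eq_ker, RingHom.mem_ker] at h ⊢
  rw [map_mul] at h
  have hd := WGB.leading_toP (A := A) dW dLead dTail (by decide) 0
  have := WGB.mem_of_mul_mem_of_coprime (ω := dW) (lead := fun e : Fin 0 => e.elim0) (b := fun e => e.elim0)
    (fun e => e.elim0) (fun e => e.elim0) (-piL A (detM A)) (WGB.ex (dLead 0))
    (by rw [neg_piL_detM]; exact hd.1) (by rw [neg_piL_detM]; exact hd.2) (fun e => e.elim0)
    (f := piL A x) (by rw [neg_mul, mul_comm, h]; simp)
  simpa using this

theorem idI_eq_inf : idI A = idJ A ⊓ idL A := by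
  refine le_antisymm (le_inf (idI_le_idJ A) (idI_le_idL A)) fun x hx => ?_
  have hJ : idJ A = idI A ⊔ Ideal.span {detM A} := by
    rw [idJ, idI, ← Ideal.span_union]
    congr 1
    ext y; simp only [Set.mem_union, Set.mem_insert_iff, Set.mem_singleton_iff]; tauto
  obtain ⟨hxJ, hxL⟩ := hx
  rw [hJ] at hxJ
  obtain ⟨q, hq, z, hz, rfl⟩ := Submodule.mem_sup.mp hxJ
  obtain ⟨r, rfl⟩ := Ideal.mem_span_singleton'.mp hz
  have : r * detM A ∈ idL A := by
    have := sub_mem hxL (idI_le_idL A hq); simpa using this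
  exact add_mem hq (L_mul_detM_mem A (mem_idL_of_mul_detM A this))

theorem mem_idJ_of_L1_mul_mem {x : D A} (h : x * L1 A ∈ idJ A) : x ∈ idJ A := by
  rw [idJ_eq_ker, RingHom.mem_ker] at h ⊢
  rw [map_mul] at h
  exact (isUnit_phi_L1 A).mul_left_eq_zero.mp h

theorem colon_idI_idL : (idI A).colon (idL A : Set (D A)) = idJ A := by
  ext x
  rw [Submodule.mem_colon]
  refine ⟨fun h => mem_idJ_of_L1_mul_mem A ?_, fun h p hp => mul_mem_idI A hp h⟩
  exact idI_le_idJ A (h (L1 A) (Ideal.subset_span (Set.mem_insert _ _)))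

theorem colon_idI_idJ : (idI A).colon (idJ A : Set (D A)) = idL A := by
  ext x
  rw [Submodule.mem_colon]
  refine ⟨fun h => mem_idL_of_mul_detM A ?_, fun h p hp => ?_⟩
  · exact idI_le_idL A (h (detM A) (Ideal.subset_span (by simp)))
  · rw [smul_eq_mul, mul_comm]; exact mul_mem_idI A h hp

end Groth.Agent.H26Lie3
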