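import Groth.Agent.H26Misc.WeightGroebner

/-! Gröbner data for the ideal `J` of the based three dimensional Lie algebras (variables u v w h g i e b c). -/

set_option autoImplicit false
open MvPolynomial

namespace Groth.Agent.H26Lie3

open Groth.Agent.H26Misc

def gW : Fin 9 → ℕ := ![1, 3, 1, 1, 2, 1, 1, 2, 4]

def gLead : Fin 5 → Fin 9 → ℕ := ![![0, 1, 0, 0, 1, 0, 0, 0, 0],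
    ![0, 1, 0, 1, 0, 0, 0, 0, 0],
    ![0, 0, 1, 0, 0, 0, 0, 0, 1],
    ![0, 0, 1, 0, 1, 0, 0, 1, 0],
    ![0, 0, 0, 0, 1, 0, 1, 0, 1]]

def gTail : Fin 5 → List (ℤ × (Fin 9 → ℕ)) := ![[(-1, ![0, 0, 1, 0, 0, 1, 0, 0, 0]), (-1, ![1, 0, 0, 1, 0, 0, 0, 0, 0])],
    [(-1, ![0, 0, 1, 0, 0, 0, 0, 1, 0]), (1, ![1, 0, 0, 0, 0, 0, 1, 0, 0])],
    [(-1, ![0, 1, 0, 0, 0, 1, 0, 0, 0]), (1, ![1, 0, 0, 0, 0, 0, 0, 1, 0]), (-1, ![1, 1, 0, 0, 0, 0, 0, 0, 0])],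
    [(-1, ![0, 0, 1, 1, 0, 1, 0, 0, 0]), (-1, ![1, 0, 0, 0, 1, 0, 1, 0, 0]), (-1, ![1, 0, 0, 2, 0, 0, 0, 0, 0])],
    [(-1, ![0, 0, 0, 0, 0, 2, 1, 0, 0]), (1, ![0, 0, 0, 0, 1, 0, 0, 2, 0]), (-2, ![0, 0, 0, 1, 0, 1, 0, 1, 0]), (1, ![0, 0, 0, 2, 0, 0, 0, 0, 1]), (-1, ![1, 0, 0, 0, 0, 1, 1, 0, 0]), (-1, ![1, 0, 0, 1, 0, 0, 0, 1, 0])]]

def gCert : Fin 5 → Fin 5 → Fin 5 → List (ℤ × (Fin 9 → ℕ))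
  | 0, 1 => ![[], [], [], [(1, ![0, 0, 0, 0, 0, 0, 0, 0, 0])], []]
  | 0, 2 => ![[(1, ![0, 1, 0, 0, 0, 1, 0, 0, 0]), (-1, ![1, 0, 0, 0, 0, 0, 0, 1, 0]), (1, ![1, 1, 0, 0, 0, 0, 0, 0, 0])], [], [(-1, ![0, 0, 1, 0, 0, 1, 0, 0, 0]), (-1, ![1, 0, 0, 1, 0, 0, 0, 0, 0])], [], []]
  | 0, 3 => ![[(1, ![1, 0, 0, 0, 0, 0, 1, 0, 0])], [(1, ![0, 0, 1, 0, 0, 1, 0, 0, 0]), (1, ![1, 0, 0, 1, 0, 0, 0, 0, 0])], [], [], []]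
  | 0, 4 => ![[(-1, ![0, 0, 0, 0, 0, 0, 0, 2, 0])], [(1, ![0, 0, 0, 0, 0, 1, 0, 1, 0]), (-1, ![0, 0, 0, 1, 0, 0, 0, 0, 1])], [(-1, ![0, 0, 0, 0, 0, 1, 1, 0, 0]), (-1, ![0, 0, 0, 1, 0, 0, 0, 1, 0])], [], []]
  | 1, 2 => ![[], [(1, ![0, 1, 0, 0, 0, 1, 0, 0, 0]), (-1, ![1, 0, 0, 0, 0, 0, 0, 1, 0]), (1, ![1, 1, 0, 0, 0, 0, 0, 0, 0])], [(-1, ![0, 0, 1, 0, 0, 0, 0, 1, 0]), (1, ![1, 0, 0, 0, 0, 0, 1, 0, 0])], [], []]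
  | 1, 3 => ![[(1, ![1, 0, 0, 1, 0, 0, 1, 0, 0])], [(1, ![0, 0, 1, 1, 0, 1, 0, 0, 0]), (1, ![1, 0, 0, 2, 0, 0, 0, 0, 0])], [], [(-1, ![0, 0, 1, 0, 0, 0, 0, 1, 0])], []]
  | 1, 4 => ![[(-1, ![0, 0, 0, 0, 0, 1, 1, 1, 0]), (-1, ![0, 0, 0, 1, 0, 0, 0, 2, 0]), (-1, ![1, 0, 0, 0, 0, 0, 1, 1, 0])], [(1, ![0, 0, 0, 0, 0, 2, 1, 0, 0]), (1, ![0, 0, 0, 1, 0, 1, 0, 1, 0]), (-1, ![0, 0, 0, 2, 0, 0, 0, 0, 1]), (1, ![1, 0, 0, 0, 0, 1, 1, 0, 0])], [(-1, ![0, 0, 0, 0, 1, 0, 1, 1, 0]), (-1, ![0, 0, 0, 2, 0, 0, 0, 1, 0])], [], [(1, ![1, 0, 0, 0, 0, 0, 1, 0, 0])]]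
  | 2, 3 => ![[(-1, ![0, 0, 0, 0, 0, 1, 0, 1, 0]), (-1, ![1, 0, 0, 0, 0, 0, 0, 1, 0])], [(1, ![0, 0, 0, 0, 0, 2, 0, 0, 0]), (1, ![1, 0, 0, 0, 0, 1, 0, 0, 0])], [(1, ![0, 0, 0, 1, 0, 1, 0, 0, 0])], [], [(1, ![1, 0, 0, 0, 0, 0, 0, 0, 0])]]
  | 2, 4 => ![[(-1, ![0, 0, 0, 0, 0, 1, 1, 0, 0]), (-1, ![1, 0, 0, 0, 0, 0, 1, 0, 0])], [(-1, ![0, 0, 0, 1, 0, 1, 0, 0, 0]), (-1, ![1, 0, 0, 1, 0, 0, 0, 0, 0])], [(-1, ![0, 0, 0, 2, 0, 0, 0, 0, 0])], [(-1, ![0, 0, 0, 0, 0, 0, 0, 1, 0])], []]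
  | 3, 4 => ![[], [(-1, ![0, 0, 0, 0, 0, 2, 1, 0, 0]), (-1, ![0, 0, 0, 1, 0, 1, 0, 1, 0]), (-1, ![1, 0, 0, 0, 0, 1, 1, 0, 0]), (-1, ![1, 0, 0, 1, 0, 0, 0, 1, 0])], [(-1, ![0, 0, 0, 1, 0, 1, 1, 0, 0]), (-1, ![0, 0, 0, 2, 0, 0, 0, 1, 0])], [(-1, ![0, 0, 0, 0, 0, 0, 0, 2, 0])], [(-1, ![1, 0, 0, 0, 0, 0, 1, 0, 0])]]
  | _, _ => ![[], [], [], [], []]

theorem gTail_lt : ∀ j, ∀ t ∈ gTail j, WGB.wv gW t.2 < WGB.wv gW (gLead j) := by decide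

theorem gCert_lt : ∀ j k, j < k → ∀ i, ∀ t ∈ gCert j k i,
    WGB.wv gW t.2 + WGB.wv gW (gLead i) < WGB.wv gW (fun x => max (gLead j x) (gLead k x)) := by decide

variable (A : Type*) [CommRing A]

/-- the basis -/
noncomputable def gB (j : Fin 5) : MvPolynomial (Fin 9) A := WGB.toP ((1, gLead j) :: gTail j)

theorem gB_leading : WGB.Leading gW (fun j => WGB.ex (gLead j)) (gB A) :=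
  WGB.leading_toP gW gLead gTail gTail_lt

theorem gB_buchberger : WGB.Buchberger gW (fun j => WGB.ex (gLead j)) (gB A) := by
  refine WGB.buchberger_toP gW gLead (gB A) gCert gCert_lt fun j k hjk => ?_
  rw [Fin.sum_univ_five]
  fin_cases j <;> fin_cases k <;> first
    | exact absurd hjk (by decide)
    | (simp [gB, gLead, gTail, gCert, WGB.toP, Fin.prod_univ_succ]
       ring)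

end Groth.Agent.H26Lie3
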