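import Groth.Agent.H26Lie3.Base
import Mathlib.RingTheory.RegularLocalRing.Polynomial
import Mathlib.RingTheory.Ideal.KrullsHeightTheorem
import Mathlib.RingTheory.Localization.AtPrime.Basic

/-! Local rings of affine space at rational points, and smooth charts of `D/J`. -/

set_option autoImplicit false
open MvPolynomial
universe u

namespace Groth.Agent.H26Lie3

variable (k : Type u) [Field k] {n : ℕ} (a : Fin n → k)

/-- maximal ideal of a rational point -/
noncomputable def ptIdeal : Ideal (MvPolynomial (Fin n) k) := RingHom.ker (aeval a : MvPolynomial (Fin n) k →ₐ[k] k)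

instance ptIdeal_isMaximal : (ptIdeal k a).IsMaximal :=
  RingHom.ker_isMaximal_of_surjective _ fun c => ⟨C c, by simp⟩

theorem ptIdeal_eq_span : ptIdeal k a = Ideal.span (Set.range fun i => X i - C (a i)) := by
  refine le_antisymm (fun p hp => ?_) ?_
  · have h : ∀ p : MvPolynomial (Fin n) k, p - C (aeval a p) ∈ Ideal.span (Set.range fun i => X i - C (a i)) := by
      intro p
      induction p using MvPolynomial.induction_on with
      | C c => simp
      | add p q hp hq => rw [map_add, map_add, add_sub_add_comm]; exact add_mem hp hq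
      | mul_X p i hp =>
        rw [map_mul, map_mul, aeval_X,
          show p * X i - C (aeval a p) * C (a i) = (p - C (aeval a p)) * X i + C (aeval a p) * (X i - C (a i)) by ring]
        exact add_mem (Ideal.mul_mem_right _ _ hp) (Ideal.mul_mem_left _ _ (Ideal.subset_span ⟨i, rfl⟩))
    have := h p
    rwa [RingHom.mem_ker.mp hp, map_zero, sub_zero] at this
  · rw [Ideal.span_le]; rintro _ ⟨i, rfl⟩; simp [ptIdeal]

/-- substitute the first `j` variables -/
noncomputable def substFirst (j : ℕ) : MvPolynomial (Fin n) k →ₐ[k] MvPolynomial (Fin n) k :=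
  aeval fun i => if i.val < j then C (a i) else X i

theorem height_ptIdeal : (ptIdeal k a).height = n := by
  apply le_antisymm
  · rw [ptIdeal_eq_span]
    refine (Ideal.height_le_spanFinrank _ ?_).trans ?_
    · rw [← ptIdeal_eq_span]; exact (ptIdeal_isMaximal k a).ne_top
    · refine Nat.cast_le.mpr ((Submodule.spanFinrank_span_le_ncard_of_finite (Set.finite_range _)).trans ?_)
      rw [← Set.image_univ]
      exact (Set.ncard_image_le Set.finite_univ).trans (by simp [Set.ncard_univ])
  · let P : ℕ → Ideal (MvPolynomial (Fin n) k) := fun j => RingHom.ker (substFirst k a j)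
    have hprime : ∀ j, (P j).IsPrime := fun j => RingHom.ker_isPrime _
    have hle : ∀ j, P j ≤ P (j + 1) := by
      intro j p hp
      have e : (substFirst k a (j + 1)).comp (substFirst k a j) = substFirst k a (j + 1) := by
        refine algHom_ext fun i => ?_
        by_cases h : i.val < j <;> by_cases h' : i.val < j + 1 <;> simp [substFirst, h, h'] <;> omega
      rw [RingHom.mem_ker] at hp ⊢
      rw [← e, AlgHom.comp_apply, hp, map_zero]
    have hlt : ∀ j, j < n → P j < P (j + 1) := by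
      intro j hj
      refine lt_of_le_of_ne (hle j) fun e => ?_
      have : (X ⟨j, hj⟩ - C (a ⟨j, hj⟩) : MvPolynomial (Fin n) k) ∈ P (j + 1) := by simp [P, substFirst]
      rw [← e, RingHom.mem_ker] at this
      simp [substFirst] at this
      have h1 := congrArg (coeff (Finsupp.single (⟨j, hj⟩ : Fin n) 1)) this
      simp [coeff_C, (Finsupp.single_ne_zero.mpr (one_ne_zero : (1 : ℕ) ≠ 0)).symm] at h1
    have key : ∀ j, j ≤ n → (j : ℕ∞) ≤ (P j).height := by
      intro j
      induction j with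
      | zero => simp
      | succ j ih =>
        intro hj
        haveI := hprime j
        haveI := hprime (j + 1)
        push_cast
        exact le_trans (add_le_add_left (ih (by omega)) 1) (Ideal.height_add_one_le_of_lt_of_isPrime (hlt j (by omega)))
    refine (key n le_rfl).trans (Ideal.height_mono fun p hp => ?_)
    have e : (aeval a : MvPolynomial (Fin n) k →ₐ[k] k).comp (substFirst k a n) = aeval a :=
      algHom_ext fun i => by simp [substFirst, i.2]
    rw [ptIdeal, RingHom.mem_ker, ← e, AlgHom.comp_apply, RingHom.mem_ker.mp hp, map_zero]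

/-- local ring at a rational point -/
abbrev PtLoc := Localization.AtPrime (ptIdeal k a)

theorem ptLoc_regular : IsRegularLocalRing (PtLoc k a) ∧ ringKrullDim (PtLoc k a) = n :=
  ⟨IsRegularRing.isRegularLocalRing_localization _, by
    rw [IsLocalization.AtPrime.ringKrullDim_eq_height (ptIdeal k a), height_ptIdeal]; rfl⟩

theorem isUnit_algebraMap {p : MvPolynomial (Fin n) k} (h : aeval a p ≠ (0 : k)) :
    IsUnit (algebraMap _ (PtLoc k a) p) :=
  IsLocalization.map_units (PtLoc k a) (⟨p, fun hp => h hp⟩ : (ptIdeal k a).primeCompl)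

/-- evaluation of the local ring at its point -/
noncomputable def ptEval : PtLoc k a →+* k :=
  IsLocalization.lift (M := (ptIdeal k a).primeCompl) (g := ((aeval a : MvPolynomial (Fin n) k →ₐ[k] k) : MvPolynomial (Fin n) k →+* k))
    fun y => isUnit_iff_ne_zero.mpr y.2

@[simp] theorem ptEval_algebraMap (p : MvPolynomial (Fin n) k) : ptEval k a (algebraMap _ _ p) = aeval a p :=
  IsLocalization.lift_eq _ p

theorem isUnit_of_ptEval_ne_zero {z : PtLoc k a} (h : ptEval k a z ≠ 0) : IsUnit z := by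
  obtain ⟨⟨p, s⟩, e⟩ := IsLocalization.surj (ptIdeal k a).primeCompl z
  have hp : aeval a p ≠ (0 : k) := by
    rw [← ptEval_algebraMap, ← e, map_mul, ptEval_algebraMap]
    exact mul_ne_zero h s.2
  exact (IsUnit.mul_iff.mp (e ▸ isUnit_algebraMap k a hp)).1

/-- A chart: two maps inverse on generators identify a localised quotient with the local ring of a point. -/
theorem regular_of_chart {N : ℕ} (J : Ideal (MvPolynomial (Fin N) k)) (pt : Fin N → k)
    (P : Ideal (MvPolynomial (Fin N) k ⧸ J)) [P.IsPrime] (hP : P.comap (Ideal.Quotient.mk J) = ptIdeal k pt)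
    (φ : MvPolynomial (Fin N) k →ₐ[k] PtLoc k a) (s : Fin n → MvPolynomial (Fin N) k)
    (hJ : J ≤ RingHom.ker φ) (hpt : ∀ i, ptEval k a (φ (X i)) = pt i)
    (hs : ∀ i, (aeval pt : MvPolynomial (Fin N) k →ₐ[k] k) (s i) = a i) (hφs : ∀ i, φ (s i) = algebraMap (MvPolynomial (Fin n) k) (PtLoc k a) (X i))
    (hinv : ∀ Ψ : PtLoc k a →+* Localization.AtPrime P,
      (∀ p : MvPolynomial (Fin n) k, Ψ (algebraMap _ (PtLoc k a) p) = algebraMap _ _ (Ideal.Quotient.mk J (aeval s p))) →
      ∀ i, Ψ (φ (X i)) = algebraMap _ _ (Ideal.Quotient.mk J (X i))) :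
    IsRegularLocalRing (Localization.AtPrime P) ∧ ringKrullDim (Localization.AtPrime P) = n := by
  have hcomp : (ptEval k a).comp (φ : MvPolynomial (Fin N) k →+* PtLoc k a) =
      ((aeval pt : MvPolynomial (Fin N) k →ₐ[k] k) : MvPolynomial (Fin N) k →+* k) := by
    refine MvPolynomial.ringHom_ext (fun r => ?_) (fun i => by simp [hpt])
    show ptEval k a (φ (C r)) = aeval pt (C r)
    rw [← algebraMap_eq, AlgHom.commutes, IsScalarTower.algebraMap_apply k (MvPolynomial (Fin n) k) (PtLoc k a),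
      ptEval_algebraMap, AlgHom.commutes, AlgHom.commutes]
  let φ' : MvPolynomial (Fin N) k ⧸ J →+* PtLoc k a :=
    Ideal.Quotient.lift J (φ : MvPolynomial (Fin N) k →+* PtLoc k a) fun x hx => RingHom.mem_ker.mp (hJ hx)
  have hφu : ∀ y : P.primeCompl, IsUnit (φ' y) := by
    rintro ⟨y, hy⟩
    obtain ⟨x, rfl⟩ := Ideal.Quotient.mk_surjective y
    refine isUnit_of_ptEval_ne_zero k a fun h => hy ?_
    show x ∈ P.comap (Ideal.Quotient.mk J)
    rw [hP, ptIdeal, RingHom.mem_ker]
    exact (RingHom.congr_fun hcomp x).symm.trans h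
  let Φ : Localization.AtPrime P →+* PtLoc k a := IsLocalization.lift (M := P.primeCompl) (g := φ') hφu
  let σ : MvPolynomial (Fin n) k →+* Localization.AtPrime P :=
    (algebraMap _ _).comp ((Ideal.Quotient.mk J).comp (aeval s : MvPolynomial (Fin n) k →ₐ[k] MvPolynomial (Fin N) k).toRingHom)
  have hσu : ∀ y : (ptIdeal k a).primeCompl, IsUnit (σ y) := by
    rintro ⟨y, hy⟩
    refine IsLocalization.map_units (Localization.AtPrime P) (⟨Ideal.Quotient.mk J (aeval s y), fun h => hy ?_⟩ : P.primeCompl)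
    have h' : aeval s y ∈ P.comap (Ideal.Quotient.mk J) := h
    rw [hP, ptIdeal, RingHom.mem_ker] at h'
    rw [SetLike.mem_coe, ptIdeal, RingHom.mem_ker, ← h']
    have : (aeval pt : MvPolynomial (Fin N) k →ₐ[k] k).comp (aeval s) = aeval a :=
      algHom_ext fun i => by rw [AlgHom.comp_apply, aeval_X, aeval_X]; exact hs i
    rw [← this]; rfl
  let Ψ : PtLoc k a →+* Localization.AtPrime P := IsLocalization.lift (M := (ptIdeal k a).primeCompl) (g := σ) hσu
  have hΨ : ∀ p, Ψ (algebraMap _ _ p) = σ p := fun p => IsLocalization.lift_eq _ p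
  have hΦ : ∀ p, Φ (algebraMap _ _ (Ideal.Quotient.mk J p)) = φ p := fun p => IsLocalization.lift_eq _ _
  have hC : ∀ r : k, φ (C r) = algebraMap (MvPolynomial (Fin n) k) _ (C r) := fun r => by
    rw [← algebraMap_eq, AlgHom.commutes, IsScalarTower.algebraMap_apply k (MvPolynomial (Fin n) k) (PtLoc k a)]
    rfl
  have h1 : Φ.comp Ψ = RingHom.id _ := by
    refine IsLocalization.ringHom_ext (ptIdeal k a).primeCompl (MvPolynomial.ringHom_ext (fun r => ?_) (fun i => ?_))
    · show Φ (Ψ (algebraMap _ _ (C r))) = algebraMap _ _ (C r)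
      rw [hΨ]
      show Φ (algebraMap _ _ (Ideal.Quotient.mk J (aeval s (C r)))) = _
      rw [hΦ, aeval_C, algebraMap_eq, hC]
    · show Φ (Ψ (algebraMap _ _ (X i))) = algebraMap _ _ (X i)
      rw [hΨ]
      show Φ (algebraMap _ _ (Ideal.Quotient.mk J (aeval s (X i)))) = _
      rw [hΦ, aeval_X, hφs]
  have h2 : Ψ.comp Φ = RingHom.id _ := by
    refine IsLocalization.ringHom_ext P.primeCompl (Ideal.Quotient.ringHom_ext (MvPolynomial.ringHom_ext (fun r => ?_) (fun i => ?_)))
    · show Ψ (Φ (algebraMap _ _ (Ideal.Quotient.mk J (C r)))) = algebraMap _ _ (Ideal.Quotient.mk J (C r))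
      rw [hΦ, hC, hΨ]
      simp [σ, algebraMap_eq]
    · show Ψ (Φ (algebraMap _ _ (Ideal.Quotient.mk J (X i)))) = algebraMap _ _ (Ideal.Quotient.mk J (X i))
      rw [hΦ]; exact hinv Ψ hΨ i
  let e : PtLoc k a ≃+* Localization.AtPrime P := RingEquiv.ofRingHom Ψ Φ h2 h1
  obtain ⟨hr, hd⟩ := ptLoc_regular k a
  haveI := hr
  exact ⟨IsRegularLocalRing.of_ringEquiv e, (ringKrullDim_eq_of_ringEquiv e).symm.trans hd⟩

open Lie3Mod

/-- the point on the line `b = 1, f = t` -/
def linePt (t : k) : Fin 9 → k := ![0, 1, 0, 0, 0, t, 0, 0, 0]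

/-- free parameters `u v w e b c` -/
noncomputable def sV : Fin 6 → D k := ![L1 k, L2 k, L3 k, ve, vb, vc]

/-- base point in the parameters `u v w e b c` -/
def aV (t : k) : Fin 6 → k := ![0, 1 + t, 0, 0, 1, 0]

theorem regular_line_V (t : k) (ht : 1 + t ≠ 0) (P : Ideal (D k ⧸ idJ k)) [P.IsPrime]
    (hP : P.comap (Ideal.Quotient.mk (idJ k)) = ptIdeal k (linePt k t)) :
    IsRegularLocalRing (Localization.AtPrime P) ∧ ringKrullDim (Localization.AtPrime P) = 6 := by
  let z : Fin 6 → PtLoc k (aV k t) := fun i => algebraMap (MvPolynomial (Fin 6) k) _ (X i)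
  have hv : IsUnit (z 1) := isUnit_algebraMap k _ (by simpa [aV] using ht)
  obtain ⟨r, hr⟩ := hv.exists_right_inv
  let Hh := (z 4 * z 2 - z 3 * z 0) * r
  let Ii := ((z 4 - z 1) * z 0 + z 5 * z 2) * r
  let Gg := (Hh * z 0 + Ii * z 2) * r
  let φ : D k →ₐ[k] PtLoc k (aV k t) := aeval ![z 0 + Ii, z 4, z 5, z 2 - Hh, z 3, z 1 - z 4, Gg, Hh, Ii]
  have hHh : z 1 * Hh = z 4 * z 2 - z 3 * z 0 := by simp only [Hh]; linear_combination (z 4 * z 2 - z 3 * z 0) * hr
  have hIi : z 1 * Ii = (z 4 - z 1) * z 0 + z 5 * z 2 := by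
    simp only [Ii]; linear_combination ((z 4 - z 1) * z 0 + z 5 * z 2) * hr
  have hGg : z 1 * Gg = Hh * z 0 + Ii * z 2 := by simp only [Gg]; linear_combination (Hh * z 0 + Ii * z 2) * hr
  have q1 : φ (Q1 k) = 0 := by
    simp [φ, Q1, va, vb, vd, vf, vg, vh, vi]; linear_combination (-1 : PtLoc k (aV k t)) * hGg
  have q2 : φ (Q2 k) = 0 := by
    simp [φ, Q2, va, vb, vd, ve, vf, vh, vi]; linear_combination (-1 : PtLoc k (aV k t)) * hHh
  have q3 : φ (Q3 k) = 0 := by
    simp [φ, Q3, va, vb, vc, vd, vf, vh, vi]; linear_combination (-1 : PtLoc k (aV k t)) * hIi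
  have qd : φ (detM k) = 0 := by
    have hmem := L_mul_detM_mem k (show L2 k ∈ idL k from Ideal.subset_span (by simp))
    have hle : idI k ≤ RingHom.ker φ := Ideal.span_le.mpr (by
      rintro y hy
      simp only [Set.mem_insert_iff, Set.mem_singleton_iff] at hy
      rcases hy with rfl | rfl | rfl <;> assumption)
    have h0 := RingHom.mem_ker.mp (hle hmem)
    rw [map_mul, show φ (L2 k) = z 1 by simp [φ, L2, vb, vf]] at h0
    exact hv.mul_right_eq_zero.mp h0
  have hr0 : (1 + t) * ptEval k (aV k t) r = 1 := by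
    have := congrArg (ptEval k (aV k t)) hr
    simp only [z, map_mul, map_one, ptEval_algebraMap, aeval_X] at this
    simpa [aV] using this
  refine regular_of_chart k (aV k t) (idJ k) (linePt k t) P hP φ (sV k) (Ideal.span_le.mpr ?_) ?_ ?_ ?_ ?_
  · rintro y hy
    simp only [Set.mem_insert_iff, Set.mem_singleton_iff] at hy
    rcases hy with rfl | rfl | rfl | rfl <;> assumption
  · have hzv : ∀ i, ptEval k (aV k t) (z i) = aV k t i := fun i => by simp only [z, ptEval_algebraMap, aeval_X]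
    intro i; fin_cases i <;> simp [φ, Hh, Ii, Gg, hzv, linePt] <;> simp [aV]
  · intro i; fin_cases i <;> simp [sV, linePt, aV, L1, L2, L3, va, vb, vc, vd, ve, vf, vh, vi]
  · intro i; fin_cases i <;> simp [φ, sV, z, L1, L2, L3, va, vb, vc, vd, ve, vf, vh, vi]
  · intro Ψ hΨ
    let μ : D k →+* Localization.AtPrime P := (algebraMap _ _).comp (Ideal.Quotient.mk (idJ k))
    have hz : ∀ i, Ψ (z i) = μ (sV k i) := fun i => by show Ψ (algebraMap _ _ (X i)) = _; rw [hΨ, aeval_X]; rfl
    have hJ : ∀ y ∈ ({Q1 k, Q2 k, Q3 k, detM k} : Set (D k)), μ y = 0 := fun y hy => by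
      show algebraMap (D k ⧸ idJ k) (Localization.AtPrime P) (Ideal.Quotient.mk (idJ k) y) = 0
      rw [Ideal.Quotient.eq_zero_iff_mem.mpr (show y ∈ idJ k from Ideal.subset_span hy), map_zero]
    suffices key : ∀ (S : Type u) [CommRing S] (μ : D k →+* S) (Ψ : PtLoc k (aV k t) →+* S),
        (∀ i, Ψ (z i) = μ (sV k i)) →
        (∀ y ∈ ({Q1 k, Q2 k, Q3 k, detM k} : Set (D k)), μ y = 0) → ∀ i, Ψ (φ (X i)) = μ (X i) from
      fun i => key (Localization.AtPrime P) μ Ψ hz hJ i
    clear! μ Ψ
    intro S _ μ Ψ hz hJ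
    have huv : IsUnit (μ (L2 k)) := by have := hv.map Ψ; rwa [hz] at this
    have zs0 : Ψ (z 0) = μ va - μ vi := by rw [hz]; simp [sV, L1]
    have zs1 : Ψ (z 1) = μ vb + μ vf := by rw [hz]; simp [sV, L2]
    have zs2 : Ψ (z 2) = μ vd + μ vh := by rw [hz]; simp [sV, L3]
    have zs3 : Ψ (z 3) = μ ve := by rw [hz]; simp [sV]
    have zs4 : Ψ (z 4) = μ vb := by rw [hz]; simp [sV]
    have zs5 : Ψ (z 5) = μ vc := by rw [hz]; simp [sV]
    have e1 := hJ (Q1 k) (by simp)
    have e2 := hJ (Q2 k) (by simp)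
    have e3 := hJ (Q3 k) (by simp)
    simp only [Q1, Q2, Q3, map_add, map_sub, map_mul] at e1 e2 e3
    simp only [L2, map_add] at huv
    have hH : Ψ Hh = μ vh := huv.mul_left_cancel (by
      have := congrArg Ψ hHh
      simp only [map_mul, map_sub, zs0, zs1, zs2, zs3, zs4] at this
      linear_combination this + e2)
    have hI : Ψ Ii = μ vi := huv.mul_left_cancel (by
      have := congrArg Ψ hIi
      simp only [map_mul, map_sub, map_add, zs0, zs1, zs2, zs4, zs5] at this
      linear_combination this + e3)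
    have hG : Ψ Gg = μ vg := huv.mul_left_cancel (by
      have := congrArg Ψ hGg
      simp only [map_mul, map_add, zs0, zs1, zs2, hH, hI] at this
      linear_combination this + e1)
    intro i
    show Ψ (φ (X i)) = μ (X i)
    fin_cases i <;> simp [φ, zs0, zs1, zs2, zs3, zs4, zs5, hH, hI, hG, va, vb, vc, vd, ve, vf, vg, vh, vi]

/-- free parameters `v h i e b c` -/
noncomputable def sW : Fin 6 → D k := ![L2 k, vh, vi, ve, vb, vc]

/-- base point in the parameters `v h i e b c` -/
def aW (t : k) : Fin 6 → k := ![1 + t, 0, 0, 0, 1, 0]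

theorem regular_line_W (t : k) (ht : t ≠ 0) (P : Ideal (D k ⧸ idJ k)) [P.IsPrime]
    (hP : P.comap (Ideal.Quotient.mk (idJ k)) = ptIdeal k (linePt k t)) :
    IsRegularLocalRing (Localization.AtPrime P) ∧ ringKrullDim (Localization.AtPrime P) = 6 := by
  let z : Fin 6 → PtLoc k (aW k t) := fun i => algebraMap (MvPolynomial (Fin 6) k) _ (X i)
  let del := z 4 * (z 4 - z 0) + z 5 * z 3
  have hd : IsUnit del := isUnit_of_ptEval_ne_zero k _ (by
    simp only [del, z, map_add, map_sub, map_mul, ptEval_algebraMap, aeval_X]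
    simpa [aW] using ht)
  have hb : IsUnit (z 4) := isUnit_algebraMap k _ (by simp [aW])
  obtain ⟨r, hr⟩ := hd.exists_right_inv
  obtain ⟨s, hs⟩ := hb.exists_right_inv
  let Uu := (z 4 * z 2 * z 0 - z 5 * z 1 * z 0) * r
  let Ww := (z 3 * Uu + z 1 * z 0) * s
  let num := -(z 5 * z 1 ^ 2) + z 3 * z 2 ^ 2 + z 1 * z 4 * z 2 - z 2 * z 1 * (z 0 - z 4)
  let Gg := num * r
  have hUu : del * Uu = z 4 * z 2 * z 0 - z 5 * z 1 * z 0 := by
    simp only [Uu]; linear_combination (z 4 * z 2 * z 0 - z 5 * z 1 * z 0) * hr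
  have hWw : z 4 * Ww = z 3 * Uu + z 1 * z 0 := by simp only [Ww]; linear_combination (z 3 * Uu + z 1 * z 0) * hs
  have hGg : del * Gg = num := by simp only [Gg]; linear_combination num * hr
  let φ : D k →ₐ[k] PtLoc k (aW k t) := aeval ![Uu + z 2, z 4, z 5, Ww - z 1, z 3, z 0 - z 4, Gg, z 1, z 2]
  have q2 : φ (Q2 k) = 0 := by
    simp [φ, Q2, va, vb, vd, ve, vf, vh, vi]; linear_combination hWw
  have q3 : φ (Q3 k) = 0 := by
    apply hb.mul_right_eq_zero.mp
    simp only [del] at hUu
    rw [show φ (Q3 k) = z 1 * z 5 + (Ww - z 1) * z 5 - (Uu + z 2) * (z 0 - z 4) - z 4 * z 2 by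
      simp [φ, Q3, va, vb, vc, vd, vf, vh, vi]]
    linear_combination hUu + z 5 * hWw
  have qd : φ (detM k) = 0 := by
    simp only [del, num] at hGg
    simp [φ, detM, vb, vc, ve, vf, vg, vh, vi]; linear_combination (-1 : PtLoc k (aW k t)) * hGg
  have q1 : φ (Q1 k) = 0 := by
    have key := congrArg φ (show L2 k * detM k = (ve * vc - vb * vf) * Q1 k + (vh * vc + vi * vf) * Q2 k
        + (-(vh * vb) - vi * ve) * Q3 k by simp only [L2, detM, Q1, Q2, Q3]; ring)
    rw [map_mul, qd, mul_zero, map_add, map_add, map_mul, map_mul, map_mul, q2, q3, mul_zero, mul_zero, add_zero, add_zero,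
      show φ (ve * vc - vb * vf) = del by simp [φ, del, vb, vc, ve, vf]; ring] at key
    exact hd.mul_right_eq_zero.mp key.symm
  refine regular_of_chart k (aW k t) (idJ k) (linePt k t) P hP φ (sW k) (Ideal.span_le.mpr ?_) ?_ ?_ ?_ ?_
  · rintro y hy
    simp only [Set.mem_insert_iff, Set.mem_singleton_iff] at hy
    rcases hy with rfl | rfl | rfl | rfl <;> assumption
  · have hzv : ∀ i, ptEval k (aW k t) (z i) = aW k t i := fun i => by simp only [z, ptEval_algebraMap, aeval_X]
    intro i; fin_cases i <;> simp [φ, Uu, Ww, Gg, num, hzv, linePt] <;> simp [aW]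
  · intro i; fin_cases i <;> simp [sW, linePt, aW, L2, vb, vc, ve, vf, vh, vi]
  · intro i; fin_cases i <;> simp [φ, sW, z, L2, vb, vc, ve, vf, vh, vi]
  · intro Ψ hΨ
    let μ : D k →+* Localization.AtPrime P := (algebraMap _ _).comp (Ideal.Quotient.mk (idJ k))
    have hz : ∀ i, Ψ (z i) = μ (sW k i) := fun i => by show Ψ (algebraMap _ _ (X i)) = _; rw [hΨ, aeval_X]; rfl
    have hJ : ∀ y ∈ ({Q1 k, Q2 k, Q3 k, detM k} : Set (D k)), μ y = 0 := fun y hy => by
      show algebraMap (D k ⧸ idJ k) (Localization.AtPrime P) (Ideal.Quotient.mk (idJ k) y) = 0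
      rw [Ideal.Quotient.eq_zero_iff_mem.mpr (show y ∈ idJ k from Ideal.subset_span hy), map_zero]
    suffices key : ∀ (S : Type u) [CommRing S] (μ : D k →+* S) (Ψ : PtLoc k (aW k t) →+* S),
        (∀ i, Ψ (z i) = μ (sW k i)) →
        (∀ y ∈ ({Q1 k, Q2 k, Q3 k, detM k} : Set (D k)), μ y = 0) → ∀ i, Ψ (φ (X i)) = μ (X i) from
      fun i => key (Localization.AtPrime P) μ Ψ hz hJ i
    clear! μ Ψ
    intro S _ μ Ψ hz hJ
    have zs0 : Ψ (z 0) = μ vb + μ vf := by rw [hz]; simp [sW, L2]
    have zs1 : Ψ (z 1) = μ vh := by rw [hz]; simp [sW]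
    have zs2 : Ψ (z 2) = μ vi := by rw [hz]; simp [sW]
    have zs3 : Ψ (z 3) = μ ve := by rw [hz]; simp [sW]
    have zs4 : Ψ (z 4) = μ vb := by rw [hz]; simp [sW]
    have zs5 : Ψ (z 5) = μ vc := by rw [hz]; simp [sW]
    have e2 := hJ (Q2 k) (by simp)
    have e3 := hJ (Q3 k) (by simp)
    have ed := hJ (detM k) (by simp)
    simp only [Q2, Q3, detM, map_add, map_sub, map_mul, map_neg, map_pow] at e2 e3 ed
    have hdu := hd.map Ψ
    simp only [del, map_add, map_sub, map_mul, zs0, zs3, zs4, zs5] at hdu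
    have hU : Ψ Uu = μ va - μ vi := hdu.mul_left_cancel (by
      have := congrArg Ψ hUu
      simp only [del, map_add, map_sub, map_mul, zs0, zs1, zs2, zs3, zs4, zs5] at this
      linear_combination this + μ vc * e2 - μ vb * e3)
    have hW : Ψ Ww = μ vd + μ vh := by
      have hbu := hb.map Ψ
      rw [zs4] at hbu
      refine hbu.mul_left_cancel ?_
      have := congrArg Ψ hWw
      simp only [map_add, map_mul, zs0, zs1, zs3, zs4, hU] at this
      linear_combination this - e2
    have hG : Ψ Gg = μ vg := hdu.mul_left_cancel (by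
      have := congrArg Ψ hGg
      simp only [del, num, map_add, map_sub, map_mul, map_neg, map_pow, zs0, zs1, zs2, zs3, zs4, zs5] at this
      linear_combination this + ed)
    intro i
    show Ψ (φ (X i)) = μ (X i)
    fin_cases i <;> simp [φ, zs0, zs1, zs2, zs3, zs4, zs5, hU, hW, hG, va, vb, vc, vd, ve, vf, vg, vh, vi]

end Groth.Agent.H26Lie3
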