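import Groth.Agent.H26Lie3.Base

/-! The sequences `L` and `Q` are regular. -/

set_option autoImplicit false
open MvPolynomial

namespace Groth.Agent.H26Misc.WGB

variable {σ : Type*} {A : Type*} [CommRing A] {ι : Type*} [Fintype ι]
  {ω : σ → ℕ} {lead : ι → σ →₀ ℕ} {b : ι → MvPolynomial σ A}

/-- The tail of a basis element. -/
theorem repBelow_tail_mul (hb : Leading ω lead b) (j k : ι) :
    RepBelow ω lead b (Finsupp.weight ω (lead j + lead k)) ((b j - monomial (lead j) 1) * b k) := by
  classical
  refine ⟨fun i => if i = k then b j - monomial (lead j) 1 else 0, fun i d hd => ?_, ?_⟩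
  · by_cases hi : i = k
    · subst hi
      simp only [if_true] at hd
      have hne : d ≠ lead j := by
        rintro rfl
        rw [mem_support_iff, coeff_sub, coeff_monomial, if_pos rfl, (hb j).1, sub_self] at hd
        exact hd rfl
      have hmem : d ∈ (b j).support := by
        rw [mem_support_iff, coeff_sub, coeff_monomial, if_neg (Ne.symm hne), sub_zero] at hd
        exact mem_support_iff.mpr hd
      have := (hb j).2 d hmem hne
      rw [map_add]; omega
    · simp [hi] at hd
  · simp [ite_mul, Finset.sum_ite_eq']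

/-- Bases with pairwise coprime leading monomials satisfy Buchberger's criterion. -/
theorem buchberger_of_coprime (hb : Leading ω lead b)
    (hcop : ∀ j k, j ≠ k → ∀ x, lead j x = 0 ∨ lead k x = 0) : Buchberger ω lead b := by
  intro j k
  by_cases h : j = k
  · subst h; simpa using RepBelow.zero _
  have hsup : lead j ⊔ lead k = lead j + lead k := by
    ext x; rcases hcop j k h x with e | e <;> simp [e]
  rw [hsup, add_tsub_cancel_left, add_tsub_cancel_right,
    show monomial (lead k) 1 * b j - monomial (lead j) 1 * b k =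
      (b j - monomial (lead j) 1) * b k + monomial 0 (-1) * ((b k - monomial (lead k) 1) * b j) by
      rw [monomial_zero', map_neg, C_1]; ring]
  refine (repBelow_tail_mul hb j k).add ?_
  have := (repBelow_tail_mul hb k j).monomial_mul 0 (-1)
  rwa [map_zero, zero_add, add_comm (lead k)] at this

end Groth.Agent.H26Misc.WGB

namespace Groth.Agent.H26Lie3

open Lie3Mod Groth.Agent.H26Misc

variable (A : Type*) [CommRing A]

theorem mem_span_of_mul_mem_of_coprime (ω : Fin 9 → ℕ) (l : Fin 3 → Fin 9 → ℕ)
    (t : Fin 3 → List (ℤ × (Fin 9 → ℕ))) (ht : ∀ j, ∀ s ∈ t j, WGB.wv ω s.2 < WGB.wv ω (l j))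
    (hc : ∀ j k, j ≠ k → ∀ x, l j x = 0 ∨ l k x = 0) (j : Fin 3) {x : MvPolynomial (Fin 9) A}
    (h : WGB.toP ((1, l j) :: t j) * x ∈
      Ideal.span (Set.range fun k : Fin j.val => (WGB.toP ((1, l (k.castLE j.2.le)) :: t (k.castLE j.2.le)) : MvPolynomial (Fin 9) A))) :
    x ∈ Ideal.span (Set.range fun k : Fin j.val => (WGB.toP ((1, l (k.castLE j.2.le)) :: t (k.castLE j.2.le)) : MvPolynomial (Fin 9) A)) := by
  have hl := WGB.leading_toP (A := A) ω l t ht
  have hne : ∀ k : Fin j.val, (k.castLE j.2.le : Fin 3) ≠ j := fun k e => by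
    have := congrArg Fin.val e; simp at this; omega
  have hsub : WGB.Leading ω (fun k : Fin j.val => WGB.ex (l (k.castLE j.2.le)))
      (fun k : Fin j.val => (WGB.toP ((1, l (k.castLE j.2.le)) :: t (k.castLE j.2.le)) : MvPolynomial (Fin 9) A)) :=
    fun k => hl _
  refine WGB.mem_of_mul_mem_of_coprime hsub (WGB.buchberger_of_coprime hsub ?_) _ (WGB.ex (l j)) (hl j).1 (hl j).2 ?_ h
  · intro a b hab x
    have hab' : (a.castLE j.2.le : Fin 3) ≠ b.castLE j.2.le := fun e => hab (Fin.ext (by simpa using congrArg Fin.val e))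
    simpa using hc _ _ hab' x
  · intro k x
    simpa using hc _ _ (hne k) x

/-- A triple whose transforms are, up to sign, coprime basis elements is a regular sequence. -/
theorem isRegular_triple [Nontrivial A] (r : Fin 3 → D A) (ω : Fin 9 → ℕ) (l : Fin 3 → Fin 9 → ℕ)
    (t : Fin 3 → List (ℤ × (Fin 9 → ℕ))) (ht : ∀ j, ∀ s ∈ t j, WGB.wv ω s.2 < WGB.wv ω (l j))
    (hc : ∀ j k, j ≠ k → ∀ x, l j x = 0 ∨ l k x = 0)
    (he : ∀ j, psi A (r j) = WGB.toP ((1, l j) :: t j) ∨ psi A (r j) = -WGB.toP ((1, l j) :: t j))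
    (h0 : ∀ j, constantCoeff (r j) = 0) :
    RingTheory.Sequence.IsRegular (D A) [r 0, r 1, r 2] := by
  have key : ∀ j : Fin 3, ∀ x : D A, r j * x ∈ Ideal.span (Set.range fun k : Fin j.val => r (k.castLE j.2.le)) →
      x ∈ Ideal.span (Set.range fun k : Fin j.val => r (k.castLE j.2.le)) := by
    intro j x hx
    apply mem_of_psi_mem
    have hspan : Ideal.span (psi A '' Set.range fun k : Fin j.val => r (k.castLE j.2.le)) =
        Ideal.span (Set.range fun k : Fin j.val =>
          (WGB.toP ((1, l (k.castLE j.2.le)) :: t (k.castLE j.2.le)) : MvPolynomial (Fin 9) A)) := by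
      rw [← Set.range_comp]
      apply le_antisymm <;> rw [Ideal.span_le] <;> rintro _ ⟨k, rfl⟩ <;> simp only [Function.comp_apply, SetLike.mem_coe]
      · rcases he (k.castLE j.2.le) with e | e <;> rw [e]
        · exact Ideal.subset_span ⟨k, rfl⟩
        · exact neg_mem (Ideal.subset_span ⟨k, rfl⟩)
      · rcases he (k.castLE j.2.le) with e | e
        · rw [← e]; exact Ideal.subset_span ⟨k, rfl⟩
        · rw [show WGB.toP ((1, l (k.castLE j.2.le)) :: t (k.castLE j.2.le)) = -psi A (r (k.castLE j.2.le)) by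
            rw [e, neg_neg]]
          exact neg_mem (Ideal.subset_span ⟨k, rfl⟩)
    rw [hspan]
    refine mem_span_of_mul_mem_of_coprime A ω l t ht hc j ?_
    have := mem_map_psi A hx
    rw [hspan, map_mul] at this
    rcases he j with e | e <;> rw [e] at this
    · exact this
    · rw [neg_mul] at this; simpa using neg_mem this
  refine ⟨(RingTheory.Sequence.isWeaklyRegular_iff_Fin _ _).mpr fun i => ?_, ?_⟩
  · have hlist : ∀ j : Fin 3, Ideal.ofList ([r 0, r 1, r 2].take j.val) =
        Ideal.span (Set.range fun k : Fin j.val => r (k.castLE j.2.le)) := by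
      intro j
      unfold Ideal.ofList
      congr 1
      ext y
      fin_cases j <;> simp [Fin.exists_fin_succ, eq_comm]
    rw [isSMulRegular_quotient_iff_mem_of_smul_mem]
    intro x hx
    rw [smul_eq_mul, Ideal.mul_top] at hx ⊢
    have hi : i.val < 3 := i.2
    rw [show ([r 0, r 1, r 2].take i.val) = [r 0, r 1, r 2].take (⟨i.val, hi⟩ : Fin 3).val from rfl, hlist] at hx ⊢
    have e : [r 0, r 1, r 2][i] = r ⟨i.val, hi⟩ := by
      rcases i with ⟨i, hi'⟩
      interval_cases i <;> rfl
    rw [e, smul_eq_mul] at hx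
    exact key _ _ hx
  · intro h
    have h1 : (1 : D A) ∈ Ideal.ofList [r 0, r 1, r 2] := by
      have h' : (1 : D A) ∈ (Ideal.ofList [r 0, r 1, r 2] • ⊤ : Submodule (D A) (D A)) := h ▸ Submodule.mem_top
      rwa [smul_eq_mul, Ideal.mul_top] at h'
    have hle : Ideal.ofList [r 0, r 1, r 2] ≤ RingHom.ker (constantCoeff : D A →+* A) := by
      rw [Ideal.ofList, Ideal.span_le]
      intro y hy
      simp only [Set.mem_ofPred_eq, List.mem_cons, List.not_mem_nil, or_false] at hy
      rcases hy with rfl | rfl | rfl <;> exact h0 _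
    exact one_ne_zero (RingHom.mem_ker.mp (hle h1) ▸ (map_one (constantCoeff : D A →+* A)).symm)

end Groth.Agent.H26Lie3
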